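import Cfsg.Prelude.Def_HallClasses
import Cfsg.Agent.Lib.DicksonFull.Maximal
import Cfsg.Agent.Lib.RecogThree.PSL2Orders

/-!
# A simple group `PSL₂(ℓ)` without a Hall `π`-subgroup
-/

set_option autoImplicit false

namespace Cfsg.Agent.Lib.HallExist67

open Cfsg Cfsg.Agent.Lib

/-- Exponent-`ℓ` derived subgroup and coprime divisors give an element of product order. -/
theorem exists_orderOf_dvd {H : Type*} [Group H] [Finite H] {p q ℓ : ℕ} (hp : p.Prime) (hq : q.Prime)
    (hℓ : ℓ.Prime) (hpq : p ≠ q) (hpℓ : p ≠ ℓ) (hqℓ : q ≠ ℓ) (hp' : p ∣ Nat.card H) (hq' : q ∣ Nat.card H)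
    (h1 : ∀ a b : H, (a * b * a⁻¹ * b⁻¹) ^ ℓ = 1)
    (h2 : ∀ a b : H, a ^ ℓ = 1 → b ^ ℓ = 1 → Commute a b) : ∃ y : H, p * q ∣ orderOf y := by
  have : Fact ℓ.Prime := ⟨hℓ⟩
  have hexp : ∀ x ∈ commutator H, x ^ ℓ = 1 := by
    intro x hx
    rw [commutator_eq_closure] at hx
    induction hx using Subgroup.closure_induction with
    | mem x hx => obtain ⟨a, b, rfl⟩ := hx; exact h1 a b
    | one => exact one_pow ℓ
    | mul x y _ _ hx hy => rw [(h2 x y hx hy).mul_pow, hx, hy, one_mul]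
    | inv x _ hx => rw [inv_pow, hx, inv_one]
  have hL : IsPGroup ℓ (commutator H) := fun x => ⟨1, Subtype.ext (by simpa using hexp x x.2)⟩
  obtain ⟨k, hk⟩ := IsPGroup.iff_card.1 hL
  have hdiv : ∀ s : ℕ, s.Prime → s ≠ ℓ → s ∣ Nat.card H → s ∣ Nat.card (H ⧸ commutator H) := by
    intro s hs hne hd
    rw [Subgroup.card_eq_card_quotient_mul_card_subgroup (commutator H), hk] at hd
    exact (hs.dvd_mul.1 hd).resolve_right fun h =>
      hne ((Nat.prime_dvd_prime_iff_eq hs hℓ).1 (hs.dvd_of_dvd_pow h))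
  have := Fact.mk hp
  have := Fact.mk hq
  obtain ⟨a, ha⟩ := exists_prime_orderOf_dvd_card' (G := H ⧸ commutator H) p (hdiv p hp hpℓ hp')
  obtain ⟨b, hb⟩ := exists_prime_orderOf_dvd_card' (G := H ⧸ commutator H) q (hdiv q hq hqℓ hq')
  have hab : Commute a b := by
    induction a using QuotientGroup.induction_on with
    | _ a =>
      induction b using QuotientGroup.induction_on with
      | _ b =>
        change (a : H ⧸ commutator H) * b = b * a
        rw [← QuotientGroup.mk_mul, ← QuotientGroup.mk_mul, QuotientGroup.eq,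
          show (a * b)⁻¹ * (b * a) = b⁻¹ * a⁻¹ * b * a by group]
        exact Subgroup.commutator_mem_commutator (H₁ := ⊤) (H₂ := ⊤) (g₁ := b⁻¹) (g₂ := a⁻¹) trivial trivial
          |> fun h => by simpa [commutatorElement_def, commutator] using h
  have hord : orderOf (a * b) = p * q := by
    rw [hab.orderOf_mul_eq_mul_orderOf_of_coprime, ha, hb]
    rw [ha, hb]
    exact (Nat.coprime_primes hp hq).2 hpq
  obtain ⟨y, hy⟩ := QuotientGroup.mk'_surjective (commutator H) (a * b)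
  exact ⟨y, hord ▸ hy ▸ orderOf_map_dvd _ y⟩

/-- `PSL₂(ℓ)` has no Hall `π`-subgroup for a suitable prime `ℓ`. -/
theorem not_ePi {π : Set ℕ} {p q r ℓ : ℕ} [Fact ℓ.Prime] (hp : p.Prime) (hq : q.Prime) (hr : r.Prime)
    (hq2 : q ≠ 2) (hpq : p ≠ q) (hπp : p ∈ π) (hπq : q ∈ π) (hπr : r ∉ π)
    (h8 : 8 ∣ ℓ - 1) (hlp : p ∣ (ℓ - 1) / 2) (hlr : r ∣ (ℓ - 1) / 2) (hlq : q ^ 2 ∣ ℓ + 1) :
    ¬ IsEPiGroup π (Matrix.ProjectiveSpecialLinearGroup (Fin 2) (ZMod ℓ)) := by
  rintro ⟨H, hH, hHi⟩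
  have hl := (Fact.out : ℓ.Prime)
  obtain ⟨d, hd⟩ := h8
  have hd0 : d ≠ 0 := fun h => by have := hl.two_le; rw [h, mul_zero] at hd; omega
  have hodd : Odd (Fintype.card (ZMod ℓ)) := by rw [ZMod.card, Nat.odd_iff]; omega
  have hG := DicksonFull.card_psl_odd hodd
  rw [ZMod.card] at hG
  set N := Nat.card (Matrix.ProjectiveSpecialLinearGroup (Fin 2) (ZMod ℓ)) with hN
  have hN' : N = ℓ * ((ℓ - 1) / 2) * (ℓ + 1) := by
    rw [show (ℓ - 1) / 2 = 4 * d by omega]
    have hl' : ℓ = 8 * d + 1 := by omega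
    rw [hl'] at hG ⊢
    have e : (8 * d + 1) ^ 3 = 2 * ((8 * d + 1) * (4 * d) * (8 * d + 1 + 1)) + (8 * d + 1) := by ring
    omega
  have hsplit : ∀ s j : ℕ, s.Prime → s ∈ π → s ^ j ∣ N → s ^ j ∣ Nat.card H := by
    intro s j hs hsπ hdvd
    rw [hN, ← H.card_mul_index] at hdvd
    exact (Nat.Coprime.pow_left j (hs.coprime_iff_not_dvd.2 (hHi s hs hsπ))).dvd_of_dvd_mul_right hdvd
  have hq2H : q ^ 2 ∣ Nat.card H := hsplit q 2 hq hπq (hN' ▸ dvd_mul_of_dvd_right hlq _)
  have hpH : p ∣ Nat.card H := by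
    simpa using hsplit p 1 hp hπp (by rw [pow_one, hN']; exact dvd_mul_of_dvd_left (dvd_mul_of_dvd_right hlp _) _)
  have h4 : p = 2 → 4 ∣ Nat.card H := fun h => by
    subst h
    have := hsplit 2 2 hp hπp (by
      rw [hN']; exact dvd_mul_of_dvd_left (dvd_mul_of_dvd_right ⟨d, by omega⟩ _) _)
    simpa using this
  have hqH : q ∣ Nat.card H := (dvd_pow_self q two_ne_zero).trans hq2H
  have hdd : RecogThree.PSL2Orders.dd ℓ = 2 := by
    rw [RecogThree.PSL2Orders.dd, if_neg (by omega)]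
  have hnopq : ∀ y : Matrix.ProjectiveSpecialLinearGroup (Fin 2) (ZMod ℓ), ¬ p * q ∣ orderOf y := by
    intro y hy
    rcases RecogThree.PSL2Orders.orderOf_cases ℓ y with h | h | h
    all_goals have hyp := hy.trans h
    · have h1 := (Nat.prime_dvd_prime_iff_eq hq hl).1 ((dvd_mul_left q p).trans hyp)
      have h2 := (Nat.prime_dvd_prime_iff_eq hp hl).1 ((dvd_mul_right p q).trans hyp)
      exact hpq (h2.trans h1.symm)
    · rw [ZMod.card, hdd] at hyp
      have h1 : q ∣ ℓ - 1 := ((dvd_mul_left q p).trans hyp).trans (Nat.div_dvd_of_dvd (by omega))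
      have h2 : q ∣ ℓ + 1 - (ℓ - 1) := Nat.dvd_sub ((dvd_pow_self q two_ne_zero).trans hlq) h1
      rw [show ℓ + 1 - (ℓ - 1) = 2 by omega] at h2
      exact hq2 ((Nat.prime_dvd_prime_iff_eq hq Nat.prime_two).1 h2)
    · rw [ZMod.card, hdd] at hyp
      have h2 : p ∣ (ℓ + 1) / 2 - (ℓ - 1) / 2 := Nat.dvd_sub ((dvd_mul_right p q).trans hyp) hlp
      rw [show (ℓ + 1) / 2 - (ℓ - 1) / 2 = 1 by omega] at h2
      exact hp.not_dvd_one h2
  have hqℓ : q ≠ ℓ := by
    rintro rfl
    have := Nat.le_of_dvd (by omega) hlq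
    have hq3 : 3 ≤ q := by have := hq.two_le; omega
    have hsq : q ^ 2 = q * q := sq q
    have : 3 * q ≤ q * q := Nat.mul_le_mul_right q hq3
    omega
  have hpℓ : p ≠ ℓ := by
    rintro rfl
    have := Nat.le_of_dvd (by omega) hlp
    omega
  by_cases hlH : ℓ ∣ Nat.card H
  · rcases DicksonFull.dvd_cases H hlH with ⟨h1, h2, -⟩ | ⟨Q, k, hk, hQ, hk1, -, hc⟩
    · obtain ⟨y, hy⟩ := exists_orderOf_dvd hp hq hl hpq hpℓ hqℓ hpH hqH h1 h2
      exact hnopq y (by rwa [Subgroup.orderOf_coe])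
    · have hk1' : k = 1 := le_antisymm
        (DicksonFull.exponent_le (f := 1) (by rw [ZMod.card, pow_one]) H hk1) hk
      rw [hk1', pow_one] at hQ
      rcases hc with ⟨h, -⟩ | ⟨-, h | h⟩ | ⟨h, -⟩
      · omega
      · refine hπr (hH r hr ?_)
        have he : Nat.card H = N := by rw [hQ] at h; omega
        rw [he, hN']
        exact dvd_mul_of_dvd_left (dvd_mul_of_dvd_right hlr _) _
      · have hle : Nat.card H ≤ N := hN ▸ Subgroup.card_le_card_group H
        rw [hQ] at h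
        have : 0 < N := Nat.card_pos
        omega
      · omega
  · rcases DicksonFull.coprime_cases H hlH with ⟨C, hC, hi⟩ | h
    · have hdiv : ∀ s : ℕ, s.Prime → s ∣ Nat.card H → (s = 2 → 4 ∣ Nat.card H) → s ∣ Nat.card C := by
        intro s hs hd hs4
        rw [← C.card_mul_index] at hd hs4
        have hi0 := C.index_ne_zero_of_finite
        rcases hs.dvd_mul.1 hd with h | h
        · exact h
        · have h2 := Nat.le_of_dvd (by omega) h
          have hs2 : s = 2 := by have := hs.two_le; omega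
          have h4' := hs4 hs2
          rw [show C.index = 2 by omega] at h4'
          subst hs2
          exact Nat.dvd_of_mul_dvd_mul_right two_pos (show 2 * 2 ∣ Nat.card C * 2 from h4')
      obtain ⟨g, hg⟩ := hC.exists_generator
      have hgo : orderOf g = Nat.card C := orderOf_eq_card_of_forall_mem_zpowers hg
      refine hnopq ((g : H) : Matrix.ProjectiveSpecialLinearGroup (Fin 2) (ZMod ℓ)) ?_
      rw [Subgroup.orderOf_coe, Subgroup.orderOf_coe, hgo]
      exact ((Nat.coprime_primes hp hq).2 hpq).mul_dvd_of_dvd_of_dvd (hdiv p hp hpH h4)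
        (hdiv q hq hqH (fun h => absurd h hq2))
    · have hq60 : q ^ 2 ∣ 120 := by
        rcases h with h | h | h <;> rw [h] at hq2H <;> exact hq2H.trans (by norm_num)
      have hb : q ≤ 10 := by
        have := Nat.le_of_dvd (by norm_num) hq60
        nlinarith
      have := hq.two_le
      interval_cases q <;> first | exact hq2 rfl | (norm_num at hq; done) | (norm_num at hq60; done)

end Cfsg.Agent.Lib.HallExist67
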